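set_option autoImplicit false
namespace Cfsg.Agent.Lib.Helper6.TCD.L37a
noncomputable def GT (i : Nat) : Nat := Nat.land (Nat.shiftRight 0x3030002f00002e10002d20002d00002c10002710002440002420002400002310002200001e10001d00001c40001840001820001610001500001410001300001240001230001130001120001000000f40000f30000f10000e00000c40000c10000a0000083000081000080000074000073000072000070000062000061000052000043000042000041000034000033000032000030000021000020000011000010000004000003000000 (Nat.mul 24 (Nat.land i 1023))) 16777215
end Cfsg.Agent.Lib.Helper6.TCD.L37a
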