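set_option autoImplicit false
namespace Cfsg.Agent.Lib.Helper6.TCD.L37a
noncomputable def HR (i : Nat) : Nat := Nat.land (Nat.shiftRight 0x801000070100007010000a1100008110000601000091100009110000a110000801000061100009010000501000050100007010000c0100004110000b0100008110000b11000090100006010000a01000061100007110000601000040100005110000401000070100005010000301000030100005110000a0100009010000b0100007110000811000060100003110000301000061100004010000211000020100004010000801000091100007010000201000050100001010000801000011100000010000000 (Nat.mul 28 (Nat.land i 1023))) 268435455
end Cfsg.Agent.Lib.Helper6.TCD.L37a
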