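set_option autoImplicit false
namespace Cfsg.Agent.Lib.Helper6.TCD.L37a
noncomputable def NH (i : Nat) : Nat := Nat.land (Nat.shiftRight 0x4150000000082a00000001054000000020a800000004150000000082a00000000bf000400001a200007000347000040006a800012000b70000880016f800080002d20002100068600040000b3000170001a10000800034c0001f00069400008000d4c0007c001a90000f800341000010006800000e000cfc00014001760007600033d0001700067800010000cec001040019d000200003390004500067000088000cdc0010c0019b00021000334000e40005cc0006a000cc8001b4001988007100032f000e100065a001c0000cac0037c001948006f0003100000900061e00006000c380005c0018300002800350000de0006660006a000d38003780019f0000d8003490004c00069e000da000d540027800194000030003270001000064c00016000c940001000191800110003210000500063e00016000c7800004001838002b8003050002200061800040000c2c00154001b100008800358000350006b400068000d6c000c0001b0800090003670008e0006cc0011a000db400248001b58004880036a000900006d20011e000ef000054001dd8000b8003a7000030007740002c000e6400090001cc000340003cf000a000079c0013e000e0800058001c08001e8003700009e0006e800110000e3c001a0001c7000338002e20003e00066a0004a000e48002d4001d70003f800380000880006fe0002e000df400278001bd800368003770004c0006f200028000f8c001c0001f30004700039a0003a00082a00000000f5400044001ea000120003d3000160007a40002a000f100000c001e1800050003c20000c00075200026000f4400090001e80003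40003db000680007ac00124000e90000ac001738003680037a000160005ca000a0000d780020c001e0800188003830008c00079800116000d8c0000c001b40000500036f000180006dc0001800105400000001e4000458004150000000082a0000000105400000001e5800130003cd0001400082a00000000edc000c4001db000180003a30000700073600106000e50001b8001df000180003bd0000700076a00024000ec8000e8001d8800040003b00007f0007b0000d0000eb4001b4001d60001a8003ab0004a00075400098000e8800020001d08000c0003a00000a00073a000480009dc001ac0013b0001280027500026000712000e00009e0000880016f0000f8004150000000071000020000efc000c40020a800000002740002900070a0004c000c64000f8001c5000030004150000000072e00080000e3400090001c60000b8003000001e0005fe000ae000c10000a00018180007000279000280006040001c000b4c001600019200014000322000220004f40003c000d34000300016e800140003200000d00068a000500009ec00080001a58000680031d0000300063800014000c6c000600018d0000c8003180004c00062e00096000c580012800184800050004150000000069000094001054000000018a800058003130000e00062400008000c2000078001ae00003800359000140006c000062000d90000c8001d9800040003c5000360006fc00078000e2c00090001d28001600039f000110006f00006a00105400000001e38000b8003c60000800077000012001054000000020a800000003c0000300006ca00012001054000000020a800000004150000000075000024000ed000048001d30000b0004150000000082a00000000e780005c001c3000138004150000000082a0000000105400000001c3800078004150000000060200044001054000000018a0000f8003460001e00082a0000000105400000001888000480030d0001b00082a00000000c2800030001ae800098003b90001500082a00000001054000000020a800000004150000000082a00000001054000000020a800000004150000000082a00000001054000000020a800000004150000000082a00000001054000000020a800000004150000000082a00000001054000000020a800000004150000000082a00000001054000000020a8000000041500000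 (Nat.mul 43 (Nat.land i 1023))) 8796093022207
end Cfsg.Agent.Lib.Helper6.TCD.L37a
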