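set_option autoImplicit false
namespace Cfsg.Agent.Lib.Helper6.TCD.L37a
noncomputable def P0 (i : Nat) : Nat := Nat.land (Nat.shiftRight 0x36ceec38b27cb5de3d1ea219605b152f76daa9690acf38d30b7089a29125df19b6491184d54422811c50c0 (Nat.mul 6 (Nat.land i 63))) 63
end Cfsg.Agent.Lib.Helper6.TCD.L37a
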