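set_option autoImplicit false
namespace Cfsg.Agent.Lib.Helper6.TCD.L37a
noncomputable def P1 (i : Nat) : Nat := Nat.land (Nat.shiftRight 0x34bf8c2ddf19b59368b376182bc95a53b94aa842c8d739f34a4672252521de71b6996053160cf08b046100 (Nat.mul 6 (Nat.land i 63))) 63
end Cfsg.Agent.Lib.Helper6.TCD.L37a
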