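set_option autoImplicit false
namespace Cfsg.Agent.Lib.Helper6.TCD.L37a
noncomputable def P2 (i : Nat) : Nat := Nat.land (Nat.shiftRight 0x31d36b77cefe24cacd6e866a589ea5b04d4ad16dd79c7cd6682a52628c78063c56842d754349038c201080 (Nat.mul 6 (Nat.land i 63))) 63
end Cfsg.Agent.Lib.Helper6.TCD.L37a
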