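set_option autoImplicit false
namespace Cfsg.Agent.Lib.Helper6.TCD.L37a
noncomputable def P3 (i : Nat) : Nat := Nat.land (Nat.shiftRight 0x35df6c34bf3938cacc6781c629baaaed4a35a564f7a67cc6e855120752284675a14e4032974cb10d240081 (Nat.mul 6 (Nat.land i 63))) 63
end Cfsg.Agent.Lib.Helper6.TCD.L37a
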