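set_option autoImplicit false
namespace Cfsg.Agent.Lib.Helper6.TCD.L37a
noncomputable def Q2 (i : Nat) : Nat := Nat.land (Nat.shiftRight 0x37cb1935d38aadc365337ab461bc9a63b229981ae4ca15b6978270d654749d71f359a0e12520f04b090300 (Nat.mul 6 (Nat.land i 63))) 63
end Cfsg.Agent.Lib.Helper6.TCD.L37a
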