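set_option autoImplicit false
namespace Cfsg.Agent.Lib.Helper6.TCD.L37a
noncomputable def Q4 (i : Nat) : Nat := Nat.land (Nat.shiftRight 0x24b73dd49eb8f27afd71c382c6d922aab0362686e76934165f1f48960a0253a1715a70812538f6d1550300 (Nat.mul 6 (Nat.land i 63))) 63
end Cfsg.Agent.Lib.Helper6.TCD.L37a
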