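set_option autoImplicit false
namespace Cfsg.Agent.Lib.Helper6.TCD.L37a
noncomputable def Q9 (i : Nat) : Nat := Nat.land (Nat.shiftRight 0x27b9dcef8a1df4c31ca51985484f692c2f5b607c1990244005794452e16a4c6ce69c0eb3c7a0aa8d8d95c2 (Nat.mul 6 (Nat.land i 63))) 63
end Cfsg.Agent.Lib.Helper6.TCD.L37a
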