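import Cfsg.Agent.Lib.Helper6.TC13
import Cfsg.Agent.Lib.Helper6.TCD.L37a.Par
set_option autoImplicit false
set_option maxRecDepth 1000000
set_option Elab.async false
open Cfsg.Agent.Lib.Helper6.TC
namespace Cfsg.Agent.Lib.Helper6.TCD.L37a
theorem chkR0_0 : chkFix R0 0 57 = true := by decide +kernel
theorem chkQ2_0 : chkEqF Q2 U2 0 57 = true := by decide +kernel
theorem chkR2_0 : chkFix R2 0 57 = true := by decide +kernel
theorem chkR3_0 : chkFix R3 0 57 = true := by decide +kernel
theorem chkQ4_0 : chkEqF Q4 U4 0 57 = true := by decide +kernel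
theorem chkR4_0 : chkFix R4 0 57 = true := by decide +kernel
theorem chkR5_0 : chkFix R5 0 57 = true := by decide +kernel
theorem chkR6_0 : chkFix R6 0 57 = true := by decide +kernel
theorem chkR7_0 : chkFix R7 0 57 = true := by decide +kernel
theorem chkR8_0 : chkFix R8 0 57 = true := by decide +kernel
theorem chkQ9_0 : chkEqF Q9 U9 0 57 = true := by decide +kernel
theorem chkR9_0 : chkFix R9 0 57 = true := by decide +kernel
theorem chkR10_0 : chkFix R10 0 57 = true := by decide +kernel
theorem chkR11_0 : chkFix R11 0 57 = true := by decide +kernel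
theorem chkR12_0 : chkFix R12 0 57 = true := by decide +kernel
end Cfsg.Agent.Lib.Helper6.TCD.L37a
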