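set_option autoImplicit false
namespace Cfsg.Agent.Lib.Helper6.TCD.L37a
noncomputable def P4 (i : Nat) : Nat := Nat.land (Nat.shiftRight 0x30df6e34cafb75ce792e966a18b1c83189246b6dd3ea64e7e92215d31e358b78c11a1890d5510345281002 (Nat.mul 6 (Nat.land i 63))) 63
end Cfsg.Agent.Lib.Helper6.TCD.L37a
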